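import Cfsg.Agent.H45.Uni.Final
import Cfsg.Agent.H41.StDiag_m3
import Cfsg.Agent.H421.Uni.Wt
import Cfsg.Agent.Prune
set_option linter.all false
prune_inst 0x7f00000000000000000000000000000000000000000000000000000000000000000000000000000000000000000000000000000000000000000000000000000000000000000000000000000000000000003fffffffffffffffffffffffffffbeffbdffffffff
open scoped Cfsg.Agent.FastGrp

/-!
# Theorem (U)

`p = 3` or `5`, `F` of order `p`, `2 ≤ m`: every element of order prime to `p` of `Ω_{2m+1}(p)` fixes a nonzero vector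
of every nonzero finite module in characteristic `p`.
-/

set_option autoImplicit false

namespace Cfsg.Agent.H45.Uni

open Cfsg.Agent.LieClassical Cfsg.Agent.LieClassical.OrthCore Cfsg.Agent.LieClassical.OmegaReindex

universe u v

/-- **Theorem (U)** -/
theorem fixAll {m p : ℕ} (hp : p = 3 ∨ p = 5) (hm : 2 ≤ m) {F : Type v} [Field F] [Fintype F]
    (hF : Fintype.card F = p) (x : Cfsg.Omega F (Cfsg.quadFormOdd m F)) (hx : (orderOf x).Coprime p) :
    H425.KFix.FixAll.{u} p x := by
  have hpp : p.Prime := by rcases hp with rfl | rfl <;> norm_num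
  have : Fact p.Prime := ⟨hpp⟩
  have hp2 : p ≠ 2 := by rcases hp with rfl | rfl <;> norm_num
  have hcF : CharP F p := charP_of_card hpp hF
  have hck : CharP (AlgebraicClosure F) p :=
    charP_of_injective_algebraMap (algebraMap F (AlgebraicClosure F)).injective p
  have h2 : (2 : AlgebraicClosure F) ≠ 0 := H41.StDiag.two_ne_zero_of hpp hp2
  refine fixAll_of (by rcases hp with rfl | rfl <;> norm_num) hm hF (H41.StDiag.stDiag p hpp hp2 hm)
    (H168.Uni.stZero hp ?_) (fun W _ _ => H421.Uni.stWt (p := p) (hpp.odd_of_ne_two hp2)) x hx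
  intro g hg
  rcases H41.StDiag.mem_E_or_neg h2 hm hg with h | h
  · exact ⟨g, h, 1, one_ne_zero, fun v => (one_smul _ _).symm⟩
  · refine ⟨_, h, -1, neg_ne_zero.2 one_ne_zero, fun v => ?_⟩
    rw [neg_one_smul]
    rfl

/-- **Theorem (U)** for `PΩ_{2m+1}(p)` -/
theorem fixAll_proj {m p : ℕ} (hp : p = 3 ∨ p = 5) (hm : 2 ≤ m) {F : Type v} [Field F] [Fintype F]
    (hF : Fintype.card F = p) (x : Cfsg.POmega F (Cfsg.quadFormOdd m F)) (hx : (orderOf x).Coprime p) :
    H425.KFix.FixAll.{u} p x := by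
  have hpp : p.Prime := by rcases hp with rfl | rfl <;> norm_num
  obtain ⟨y, rfl⟩ := QuotientGroup.mk_surjective x
  -- a power of `y` which has the same image and is of order prime to `p`
  obtain ⟨z, hz, hzo⟩ : ∃ z : Cfsg.Omega F (Cfsg.quadFormOdd m F), (QuotientGroup.mk z : Cfsg.POmega F _) =
      QuotientGroup.mk y ∧ (orderOf z).Coprime p := by
    have hfin : Finite (Cfsg.Omega F (Cfsg.quadFormOdd m F)) := inferInstance
    set n := orderOf y with hn
    have hn0 : n ≠ 0 := (orderOf_pos y).ne'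
    set r := orderOf (QuotientGroup.mk y : Cfsg.POmega F (Cfsg.quadFormOdd m F)) with hr
    -- `n = p ^ a * b`
    obtain ⟨a, b, hb, hnb⟩ := Nat.exists_eq_pow_mul_and_not_dvd hn0 p hpp.ne_one
    have hcop : (p ^ a).Coprime b := (Nat.Prime.coprime_pow_of_not_dvd (m := a) hpp hb).symm
    have hrd : r ∣ b := by
      have h1 : r ∣ n := orderOf_map_dvd (QuotientGroup.mk' _) y
      rw [hnb] at h1
      exact (Nat.Coprime.pow_right a hx).dvd_of_dvd_mul_left h1
    -- choose `c` with `c ≡ 1 mod b`, `c ≡ 0 mod p ^ a`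
    obtain ⟨c, hc1, hc2⟩ := Nat.chineseRemainder hcop 0 1
    refine ⟨y ^ c, ?_, ?_⟩
    · rw [QuotientGroup.mk_pow]
      have h1 : c ≡ 1 [MOD r] := hc2.of_dvd hrd
      rw [hr] at h1
      have := (pow_eq_pow_iff_modEq (x := (QuotientGroup.mk y : Cfsg.POmega F (Cfsg.quadFormOdd m F)))).2 h1
      rw [this, pow_one]
    · have h2 : p ^ a ∣ c := (Nat.modEq_zero_iff_dvd).1 hc1
      obtain ⟨d, hd⟩ := h2
      have h3 : orderOf (y ^ c) ∣ b := by
        rw [orderOf_dvd_iff_pow_eq_one, ← pow_mul, hd]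
        have : p ^ a * d * b = n * d := by rw [hnb]; ring
        rw [this, pow_mul, hn, pow_orderOf_eq_one, one_pow]
      exact Nat.Coprime.coprime_dvd_left h3 ((hpp.coprime_iff_not_dvd).2 hb).symm
  rw [← hz]
  exact (fixAll hp hm hF z hzo).map (QuotientGroup.mk' _)

end Cfsg.Agent.H45.Uni
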